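import Cfsg.Agent.H358.IF.Blk

/-!
# S5719, cell `PSL four`, `q` odd: fixity below `q ^ 2` (helper839)

* `card_S4_le` : `|SL_4(q)| ≤ q ^ 15`;
* `relIndex_lt` : `|B : B ∩ A| < q ^ 2` if `B` and a set of at least `q ^ 5` elements commute with an involution of `A`;
* `exists_mem` : an injective image of a group of order at least `q ^ 2`, commuting with the involution, meets `A`.
-/

set_option autoImplicit false
set_option linter.unusedSectionVars false

namespace Cfsg.Agent.H839.IF4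

open Matrix Cfsg.Agent.H209.Fxy Cfsg.Agent.H358.IF

variable {F : Type} [Field F]

section card

variable [Fintype F]

theorem prod_le (q : ℕ) (hq : 1 ≤ q) :
    (q ^ 4 - 1) * (q ^ 4 - q) * (q ^ 4 - q ^ 2) * (q ^ 4 - q ^ 3) ≤ q ^ 15 * (q - 1) := by
  obtain ⟨r, rfl⟩ : ∃ r, q = r + 1 := ⟨q - 1, by omega⟩
  have h1 : (r + 1) ^ 4 - (r + 1) ^ 3 = (r + 1) ^ 3 * r := by
    have : (r + 1) ^ 4 = (r + 1) ^ 3 * r + (r + 1) ^ 3 := by ring
    omega
  rw [h1, Nat.add_sub_cancel]
  calc ((r + 1) ^ 4 - 1) * ((r + 1) ^ 4 - (r + 1)) * ((r + 1) ^ 4 - (r + 1) ^ 2) * ((r + 1) ^ 3 * r)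
      ≤ (r + 1) ^ 4 * (r + 1) ^ 4 * (r + 1) ^ 4 * ((r + 1) ^ 3 * r) := by
        gcongr <;> exact Nat.sub_le _ _
    _ = (r + 1) ^ 15 * r := by ring

theorem card_GL_four : Nat.card (GL I4 F) ≤ Fintype.card F ^ 15 * (Fintype.card F - 1) := by
  have e : GL I4 F ≃ GL (Fin 4) F := Units.mapEquiv
    (Matrix.reindexAlgEquiv F F (finSumFinEquiv : Fin 2 ⊕ Fin 2 ≃ Fin (2 + 2))).toMulEquiv
  rw [Nat.card_congr e, Matrix.card_GL_field, Fin.prod_univ_four]
  simpa using prod_le (Fintype.card F) Fintype.card_pos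

/-- `diag(u, 1, 1, 1)` -/
def d1 (u : Fˣ) : GL I4 F where
  val := Matrix.diagonal (fun i => if i = Sum.inl 0 then (u : F) else 1)
  inv := Matrix.diagonal (fun i => if i = Sum.inl 0 then ((u⁻¹ : Fˣ) : F) else 1)
  val_inv := by
    rw [Matrix.diagonal_mul_diagonal, ← Matrix.diagonal_one]
    congr 1
    funext i
    split_ifs
    · exact u.mul_inv
    · exact one_mul 1
  inv_val := by
    rw [Matrix.diagonal_mul_diagonal, ← Matrix.diagonal_one]
    congr 1
    funext i
    split_ifs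
    · exact u.inv_mul
    · exact one_mul 1

theorem det_d1 (u : Fˣ) : (d1 u).val.det = u := by
  show (Matrix.diagonal (fun i : I4 => if i = Sum.inl 0 then (u : F) else 1)).det = u
  rw [Matrix.det_diagonal]
  simp

theorem card_S4_le : Nat.card (S4 F) ≤ Fintype.card F ^ 15 := by
  have h1 : Nat.card (S4 F × Fˣ) ≤ Nat.card (GL I4 F) := by
    refine Nat.card_le_card_of_injective (fun x => (x.1 : GL I4 F) * d1 x.2) ?_
    rintro ⟨s, u⟩ ⟨s', u'⟩ h
    have h2 : s.val * (d1 u).val = s'.val * (d1 u').val := congrArg Units.val h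
    have h3 := congrArg Matrix.det h2
    rw [det_mul, det_mul, s.2, s'.2, one_mul, one_mul, det_d1, det_d1] at h3
    obtain rfl : u = u' := Units.ext h3
    have h4 : s.val = s'.val := by
      have h5 := congrArg (fun M => M * ((d1 u)⁻¹ : GL I4 F).val) h2
      simpa only [mul_assoc, Units.mul_inv, mul_one] using h5
    rw [Subtype.ext h4]
  rw [Nat.card_prod, Nat.card_units, Nat.card_eq_fintype_card (α := F)] at h1
  have h2 : 0 < Fintype.card F - 1 := by
    have := Fintype.one_lt_card (α := F)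
    omega
  exact Nat.le_of_mul_le_mul_right (h1.trans card_GL_four) h2

end card

variable [Fintype F] {A : Subgroup (P4 F)}

/-- **fixity below `q ^ 2`** -/
theorem relIndex_lt (h : IFA A) {t : S4 F} (ht : t ∈ At A) (h2 : orderOf (pr t) = 2) {B : Subgroup (S4 F)}
    (hB : ∀ b ∈ B, pr (b * t) = pr (t * b)) {C : Set (S4 F)} (hC : ∀ c ∈ C, pr (c * t) = pr (t * c))
    (hC5 : Fintype.card F ^ 5 ≤ C.ncard) : (At A).relIndex B < Fintype.card F ^ 2 := by
  obtain ⟨h3, -, -⟩ := h.key (by simp) ht h2 hB hC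
  by_contra hcon
  push Not at hcon
  have h4 : Fintype.card F ^ 15 ≤ (At A).relIndex B ^ 5 * C.ncard := by
    calc Fintype.card F ^ 15 = (Fintype.card F ^ 2) ^ 5 * Fintype.card F ^ 5 := by ring
      _ ≤ _ := Nat.mul_le_mul (Nat.pow_le_pow_left hcon 5) hC5
  have h5 : Nat.card (SpecialLinearGroup I4 F) ≤ Fintype.card F ^ 15 := card_S4_le (F := F)
  omega

/-- a group of order at least `q ^ 2` meets `A` -/
theorem exists_mem {G : Type*} [Group G] [Finite G] (θ : G →* S4 F) (hθ : Function.Injective θ)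
    (hG : Fintype.card F ^ 2 ≤ Nat.card G) (hlt : (At A).relIndex θ.range < Fintype.card F ^ 2) :
    ∃ g : G, g ≠ 1 ∧ θ g ∈ At A := by
  by_contra hcon
  push Not at hcon
  have h1 : (At A).subgroupOf θ.range = ⊥ := by
    rw [Subgroup.eq_bot_iff_forall]
    rintro ⟨_, g, rfl⟩ hg
    rw [Subgroup.mem_subgroupOf] at hg
    by_cases h1 : g = 1
    · subst h1
      exact Subtype.ext (map_one θ)
    · exact absurd hg (hcon g h1)
  rw [Subgroup.relIndex, h1, Subgroup.index_bot, ← Nat.card_congr (MonoidHom.ofInjective hθ).toEquiv] at hlt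
  omega

end Cfsg.Agent.H839.IF4
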